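import Cfsg.Agent.H6.Co3.P.Main

set_option autoImplicit false
set_option maxRecDepth 100000
set_option Elab.async false

namespace Cfsg.H6.Co3.P

theorem hφ0 : IsAct φ ev img 630 32 := fun x h1 h2 p hp =>
  ⟨(hφ x h1 h2 p (by omega)).1, by
    have h : allR (fun x => allR (fun p => Nat.blt (img x p) 630) 0 630) 1 31 = true := by decide +kernel
    exact Nat.blt_eq.mp (allR_spec (allR_spec h x h1 (by omega)) p (Nat.zero_le _) (by omega))⟩

def KL : List ℕ := [15,16,17,18,19,20,21,22,23,24,25,26,27,28,29]

def KW : List (List ℕ) := KL.map fun l => [l]

def kW0 : List (List ℕ) := [[nat_lit 15], [nat_lit 16], [nat_lit 18], [nat_lit 19], [nat_lit 20], [nat_lit 21], [nat_lit 22], [nat_lit 24], [nat_lit 25], [nat_lit 26], [nat_lit 27], [nat_lit 28], [nat_lit 29]]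

theorem k0 : lvlChk img 1383 32 [] (630, kW0, unp 191 (nat_lit 0x2c4040002b90b0002b70900028d0700028d0600028d000002b6050002b5040002b00b0002b0010002a60c0002a6020002a40a0002a3040002a0030002a00200029e0a00029d0a00029d05000299060002980c0002970c0002780a00029703000296040002960300028e0a00028e040002820c000282030002820200028407000284060002840500028404000284020002950c0002950a000295010002940c0002890b000289090002890400028901000289000002940b0002940400029402000294000002910a0002910900028c060002880a00028809000288050002790c00027905000279000002770c0002770b0002770a00027709000277050002770400027702000277000002880200028a0700028a030002870b00028709000287080002870700028706000287010002860b0002860a000286080002860600028605000286010002850c0002850b0002850a00028509000285050002850400028502000285010002810c00027f0b00027f0a00027f0900027f0500027f0400027f0100027f0000027d0b00027d0900027d0300027d0200027d0100027b0a00027b0900027b0800027b0500027b0400027b0300027b0200027b0100027b000002810b0002810a00028109000281030002810100029100000293030002930200027a0c00027a0a00027a0700027a0300027a0200027a000002930100029208000292070002920600029204000292030002920200028f0b00028f0a00028f0800028f0700028f0600028f0100028f0000028b0c00028b0b00028b0a00028b0900028b0800028b0700028b0600028b0400028b010002830c0002830b0002830a000283090002830800028307000283060002830200028301000283000002800c0002800b0002800a0002800900028008000280070002800600028005000280040002800100027e0c00027e0b00027e0a00027e0900027e0600027e0500027e0400027e0300027e0200027e010002760c0002760b0002760a00027609000276080002760700027606000276050002760400027603000276020002760100027600))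 = true := by
  decide +kernel

def kW1 : List (List ℕ) := [[nat_lit 18, nat_lit 25, nat_lit 29, nat_lit 21], [nat_lit 15, nat_lit 19, nat_lit 22, nat_lit 27, nat_lit 18]]

theorem k1 : lvlChk img 1383 32 [630] (634, kW1, unp 23 (nat_lit 0x2ae00000301000002d7010002d700000286000002f4010002f400000295000002f50100031900000290000002ec010002f80000027f000002cf0100030f000002cb00000297010003160000028e0000027a010002970000027a00)) = true := by
  decide +kernel

theorem lbK : LBn φ (gen ev KW) 1383 [634, 630] 4608 := by
  have := finite
  exact LBn.cast (((LBn.nil φ _ 1383).stepU hφ (mem_of_letChk (Ws := KW) (by decide +kernel)) k0).stepU hφ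
    (mem_of_letChk (Ws := KW) (by decide +kernel)) k1) (by decide +kernel)

theorem stab : fixS φ [0] ≤ gen ev KW := by
  have := finite
  exact stab_le lb1 (by norm_num) (a := 4608) (by rw [card]) (hφ.gen_le_fixS (by decide +kernel))
    lbK.1.le_card

theorem ubK : UB (gen ev KW) 4608 := by
  have := finite
  exact ub_of_lb lb1 (by norm_num) (by rw [card]) (hφ.gen_le_fixS (by decide +kernel))

theorem lt0 (g : Grp) : φ g 0 < 630 := hφ0.lt_of_gen (by norm_num) hX (by decide +kernel) g

end Cfsg.H6.Co3.P
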